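import Cfsg.Agent.H609.Inv.Base
import Cfsg.Agent.H800.ME.Final
import Cfsg.Agent.H603.FD.Spor
import Cfsg.Agent.H533.T5.Tools

/-!
# S3830: the Monster, `p = 11`

`x` of order 11 in `C(z)`, `C(x)/⟨x⟩ ≅ M12`, `y ∈ C(x) ∖ ⟨x⟩` of order 11 with `⟨y⟩` conjugate to `⟨x⟩` (helper800): every
element of order 11 has a conjugate in `C(x) ∖ ⟨x⟩`.
-/

set_option autoImplicit false
set_option maxRecDepth 100000

namespace Cfsg.Agent.H609.Inv.Eleven

open Subgroup Cfsg Cfsg.Spor Cfsg.Agent.H459.Inv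
open Cfsg.Agent.LThreeMB (fr XX Zx)
open Cfsg.Agent.H800.ME.Final Cfsg.Agent.H800.ME.CoFacts
open Cfsg.Agent.BpSpor.MBigModel (MG zz card_M chart orderOf_zz)
open Cfsg.Agent.MFive (pow_eq_one)

universe u

/-- `x`, `y`, `k` -/
theorem exists_data : ∃ x y k : MG, orderOf x = 11 ∧ orderOf y = 11 ∧ x * y = y * x ∧ y ∉ zpowers x ∧
    k * y * k⁻¹ ∈ zpowers x ∧ Spor.IsoM12 (XX x) := by
  have : Fact (Nat.Prime 11) := ⟨prime11⟩
  obtain ⟨x, hx, hpx⟩ := exists_x
  have hxo : orderOf (x : MG) = 11 := by rw [Subgroup.orderOf_coe, hx]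
  have hd := dvd_XX hxo
  obtain ⟨c, hc, hcf, hc5⟩ := exists_f chart hx hpx
  obtain ⟨y, hy, hxy, hyx, hcy⟩ := exists_y chart hx hpx hd hc hc5
  have hN : Spor.IsoHN (XX (c : MG)) := MFiveHN.Closed.hnEight chart c hc5 (by rw [hcf]; exact fr_f1)
  obtain ⟨v, hv, hyv⟩ := exists_inv (by rw [Subgroup.orderOf_coe, hc5]) hy hcy hN
  obtain ⟨g, hg⟩ := BpSpor.MBigEleven.comm_z hy hv hyv
  have h1 : (g⁻¹ * y * g) * zz = zz * (g⁻¹ * y * g) := by
    calc (g⁻¹ * y * g) * zz = g⁻¹ * (y * (g * zz * g⁻¹)) * g := by group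
      _ = g⁻¹ * ((g * zz * g⁻¹) * y) * g := by rw [hg]
      _ = zz * (g⁻¹ * y * g) := by group
  let y' : centralizer ({zz} : Set MG) := ⟨g⁻¹ * y * g, mem_centralizer_singleton_iff.2 h1⟩
  have hy' : orderOf y' = 11 := by
    rw [← Subgroup.orderOf_coe, ← hy]
    show orderOf (g⁻¹ * y * g) = orderOf y
    have e : g⁻¹ * y * g = MulAut.conj g⁻¹ y := by rw [MulAut.conj_apply, inv_inv]
    rw [e, MulEquiv.orderOf_eq]
  obtain ⟨k, hk⟩ := CpAutON.Gen.conj_into (p := 11) (BpSpor.MBigModel.not_sq (Or.inl rfl) orderOf_zz) hy' hx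
  obtain ⟨i, hi⟩ := mem_zpowers_iff.1 hk
  refine ⟨x, y, (k : MG) * g⁻¹, hxo, hy, hxy, hyx, mem_zpowers_iff.2 ⟨i, ?_⟩, Cfsg.Agent.H800.ME.Twelve.iso chart hx hpx hd⟩
  have h2 := congrArg Subtype.val hi
  have h3 : (k : MG) * g⁻¹ * y * ((k : MG) * g⁻¹)⁻¹ = (k : MG) * (g⁻¹ * y * g) * (k : MG)⁻¹ := by group
  rw [h3]
  exact h2

/-- a power of `y` -/
theorem mem_of_pow {x y : MG} (hy : orderOf y = 11) {i : ℤ} (h1 : y ^ i ≠ 1) (h : y ^ i ∈ zpowers x) :
    y ∈ zpowers x := by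
  have h11 : Fact (Nat.Prime 11) := ⟨prime11⟩
  have h2 : ¬ (11 : ℤ) ∣ i := fun h3 => h1 (by
    rw [← orderOf_dvd_iff_zpow_eq_one, hy]
    exact h3)
  have hp : Prime (11 : ℤ) := by
    rw [Int.prime_iff_natAbs_prime]
    norm_num
  obtain ⟨a, b, hab⟩ := ((hp.coprime_iff_not_dvd).2 h2).symm
  have e3 : y ^ (a * i + b * 11) = y := by rw [hab, zpow_one]
  have e4 : y ^ (11 : ℤ) = 1 := by
    have := pow_orderOf_eq_one y
    rw [hy] at this
    exact_mod_cast this
  rw [zpow_add, mul_comm b, zpow_mul y 11 b, e4, one_zpow, mul_one, mul_comm, zpow_mul] at e3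
  rw [← e3]
  exact zpow_mem h a

/-- the elements of order 11 of the model -/
theorem ns_model (hI : IH.{u} 11 (Nat.card MG)) {r : MG} (hr : orderOf r = 11) : NS (MulAut.conj r) := by
  have h11 : Fact (Nat.Prime 11) := ⟨prime11⟩
  obtain ⟨x, y, k, hx, hy, hxy, hyx, hk, hM⟩ := exists_data
  have hM12 := H603.FD.Spor.isM12 hM
  have hs := hM12.1
  have hcard := hM12.2
  have hna : ¬ IsMulCommutative (XX x) := not_comm_of_card hcard (by norm_num) (by norm_num)
  have hfin : Finite (XX x) := Nat.finite_of_card_ne_zero (by rw [hcard]; norm_num)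
  have hrow : IRow 11 (XX x) := irow_of_ih hI hna (by rw [hcard, card_M]; norm_num)
  -- `r` has a conjugate in `C(x)`
  have hidx : ¬ 11 ∣ (centralizer ({x} : Set MG)).index := by
    intro h1
    apply not_cube
    have h2 : 11 ^ 2 ∣ Nat.card ↥(centralizer ({x} : Set MG)) := by
      have h3 := Subgroup.card_eq_card_quotient_mul_card_subgroup (Zx x)
      have h4 : Nat.card ↥(Zx x) = 11 := by
        rw [Zx, Nat.card_zpowers, ← hx]
        exact Subgroup.orderOf_mk x _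
      rw [h3, h4, pow_two]
      exact Nat.mul_dvd_mul (dvd_XX hx) dvd_rfl
    rw [← (centralizer ({x} : Set MG)).card_mul_index, pow_succ]
    exact Nat.mul_dvd_mul h2 h1
  obtain ⟨g, hg⟩ := H533.T5.exists_conj_mem_of_index hidx hr
  apply ns_conj (k := g)
  have hro : orderOf (g * r * g⁻¹) = 11 := by rw [← MulAut.conj_apply, MulEquiv.orderOf_eq, hr]
  generalize g * r * g⁻¹ = s at hg hro
  have hodd : Odd (orderOf x) := by rw [hx]; decide
  by_cases hsx : s ∈ zpowers x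
  · -- `s` is conjugate to a power of `y`
    have h1 : zpowers (k * y * k⁻¹) = zpowers x := by
      refine Subgroup.eq_of_le_of_card_ge (zpowers_le.2 hk) ?_
      rw [Nat.card_zpowers, Nat.card_zpowers, hx, ← MulAut.conj_apply, MulEquiv.orderOf_eq, hy]
    rw [← h1] at hsx
    obtain ⟨i, hi⟩ := mem_zpowers_iff.1 hsx
    rw [conj_zpow] at hi
    apply ns_conj (k := k⁻¹)
    have e : k⁻¹ * s * k⁻¹⁻¹ = y ^ i := by rw [← hi]; group
    rw [e]
    have ho : orderOf (y ^ i) = 11 := by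
      rw [← e, ← MulAut.conj_apply, MulEquiv.orderOf_eq, hro]
    refine ns_of_XX (d := x) hodd hna hrow ho ?_ ?_
    · exact ((show Commute x y from hxy).symm.zpow_left i).eq
    · intro h2
      refine hyx (mem_of_pow hy ?_ h2)
      intro h3
      rw [h3, orderOf_one] at ho
      norm_num at ho
  · exact ns_of_XX (d := x) hodd hna hrow hro (mem_centralizer_singleton_iff.1 hg) hsx

/-- **The row of the Monster, `p = 11`.** -/
theorem irow_m_eleven {K : Type u} [Group K] [Finite K] [IsSimpleGroup K] (h : Spor.IsoM K)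
    (hI : IH.{u} 11 (Nat.card K)) : IRow 11 K := by
  have hc : Nat.card K = Nat.card MG := by
    obtain ⟨e⟩ := h
    obtain ⟨f⟩ := MonsterP.Equiv.equiv
    exact Nat.card_congr (e.trans f).toEquiv
  rw [hc] at hI
  exact irow_of_model_m (by norm_num) (by norm_num) (fun _ hr => ns_model hI hr) h

end Cfsg.Agent.H609.Inv.Eleven
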