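import Cfsg.Agent.H609.Inv.Base
import Cfsg.Agent.H609.Inv.JTwoInv
import Cfsg.Agent.H609.T5.MMidFive

/-!
# S3830: the Monster, `p = 5`

Every element of order 5 has a conjugate `r' ∈ C(x)`, `ρ r' ≠ 1`, `ρ : C(x) → J₂` (`Five.al_all`); an involution `t ≠ z` of
`C(x) ∩ C(z)` maps to an involution of `J₂`; `JTwo.exists_conj`.
-/

set_option autoImplicit false

namespace Cfsg.Agent.H609.Inv.Five

open Subgroup Cfsg Cfsg.Agent.H459.Inv
open Cfsg.Agent.MonsterU Cfsg.Agent.MFive Cfsg.Agent.BpTab Cfsg.Agent.BpSpor.M5 Cfsg.Agent.H847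
open Cfsg.Agent.LThreeMB (fr XX Zx zD self toXX toCC be exists_XX_equiv)
open Cfsg.Agent.MonsterU.Ch
open Cfsg.Agent.MonsterU.Lam2 (L2)
open Cfsg.Agent.H609.T5.Five
open Cfsg.Spor (Co1)

universe u

/-- non-solvability from a homomorphic image of a subgroup -/
theorem not_solvable_of_map {G A : Type*} [Group G] [Group A] {C : Subgroup G} (ρ : ↥C →* A) {a b : ↥C}
    (h : ¬ Group.IsSolvable ↥(closure ({ρ a, ρ b} : Set A))) :
    ¬ Group.IsSolvable ↥(closure ({(a : G), (b : G)} : Set G)) := by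
  intro hs
  apply h
  have h1 : (closure ({a, b} : Set ↥C)).map C.subtype = closure ({(a : G), (b : G)} : Set G) := by
    rw [MonoidHom.map_closure, Set.image_pair]
    rfl
  have h2 : (closure ({a, b} : Set ↥C)).map ρ = closure ({ρ a, ρ b} : Set A) := by
    rw [MonoidHom.map_closure, Set.image_pair]
  rw [← h1] at hs
  rw [← h2]
  have h3 : Group.IsSolvable ↥(closure ({a, b} : Set ↥C)) :=
    Group.isSolvable_of_isSolvable_injective (f := C.subtype.subgroupMap (closure ({a, b} : Set ↥C))) (by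
      intro x y hxy
      have h8 := congrArg Subtype.val hxy
      exact Subtype.ext (C.subtype_injective h8))
  exact Group.isSolvable_of_surjective (f := ρ.subgroupMap _) (MonoidHom.subgroupMap_surjective _ _)

/-- lifting from `A` -/
theorem ns_of_rho {G A : Type*} [Group G] [Group A] {C : Subgroup G} {ρ : ↥C →* A} (hs : Function.Surjective ρ)
    {p : ℕ} (hp : p.Prime) (hA : ∀ g y : A, orderOf g = p → orderOf y = 2 →
      ∃ c : A, ¬ Group.IsSolvable ↥(closure ({g, c * y * c⁻¹} : Set A)))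
    {r t : ↥C} (hr : orderOf r = p) (ht : orderOf t = 2) (hρr : ρ r ≠ 1) (hρt : ρ t ≠ 1) :
    NS (MulAut.conj (r : G)) := by
  have h2' : Fact (Nat.Prime 2) := ⟨Nat.prime_two⟩
  have hp' : Fact p.Prime := ⟨hp⟩
  have o1 : orderOf (ρ r) = p := by
    refine orderOf_eq_prime ?_ hρr
    rw [← map_pow, ← hr, pow_orderOf_eq_one, map_one]
  have o2 : orderOf (ρ t) = 2 := by
    refine orderOf_eq_prime ?_ hρt
    rw [← map_pow, ← ht, pow_orderOf_eq_one, map_one]
  obtain ⟨c, hc⟩ := hA _ _ o1 o2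
  obtain ⟨d, rfl⟩ := hs c
  have e1 : ρ d * ρ t * (ρ d)⁻¹ = ρ (d * t * d⁻¹) := by rw [map_mul, map_mul, map_inv]
  rw [e1] at hc
  refine ns_of_inner (g := (r : G)) (y := ((d * t * d⁻¹ : ↥C) : G)) ?_ (not_solvable_of_map ρ hc)
  rw [Subgroup.orderOf_coe, ← MulAut.conj_apply, MulEquiv.orderOf_eq, ht]

variable {G : Type u} [Group G] {Q : Subgroup G} {z : G} {eta : G → L2}
  {pi : Subgroup.centralizer ({z} : Set G) →* Co1}

/-- an involution `t ≠ z` of `C(x) ∩ C(z)` -/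
theorem exists_t (H : Inp Q z eta pi) {x : Subgroup.centralizer ({z} : Set G)} (hx : orderOf x = 5)
    (hfr : fr (pi x) = 1) : ∃ t : G, orderOf t = 2 ∧ t ≠ z ∧ t * z = z * t ∧ t * (x : G) = x * t := by
  have hp := Nat.prime_five
  have ho : Odd 5 := by decide
  obtain ⟨x₀, u, g, hx₀, hfr₀, huz, hux, hne, hg⟩ := H.pr
  obtain ⟨c, hc⟩ := CoFive.Ranks.classOf _ (pi x₀) (pi x) (orderOf_pi H.h hp ho hx₀)
    (orderOf_pi H.h hp ho hx) rfl (hfr.trans hfr₀.symm)
  obtain ⟨k, hk⟩ := exists_conj_of_conj H.h hp ho (by rw [← hx₀, pow_orderOf_eq_one])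
    (by rw [← hx, pow_orderOf_eq_one]) hc
  have hkx : (k : G) * x₀ * (k : G)⁻¹ = x := congrArg Subtype.val hk
  have hkz : (k : G) * z = z * k := mem_centralizer_singleton_iff.1 k.2
  refine ⟨(k : G) * u * (k : G)⁻¹, ?_, ?_, ?_, ?_⟩
  · have h2 : orderOf z = 2 := LargeExtra.Base.orderOf_z H.h.large
    rw [← hg, ← MulAut.conj_apply, MulEquiv.orderOf_eq, ← MulAut.conj_apply, MulEquiv.orderOf_eq, h2]
  · intro h1
    apply hne
    calc u = (k : G)⁻¹ * ((k : G) * u * (k : G)⁻¹) * k := by group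
      _ = (k : G)⁻¹ * (k * z) := by rw [h1, hkz]; group
      _ = z := by group
  · have c1 : Commute (k : G) z := hkz
    have c2 : Commute u z := huz
    exact ((c1.mul_left c2).mul_left c1.inv_left).eq
  · rw [← hkx]
    calc (k : G) * u * (k : G)⁻¹ * (k * x₀ * (k : G)⁻¹) = k * (u * x₀) * (k : G)⁻¹ := by group
      _ = k * (x₀ * u) * (k : G)⁻¹ := by rw [hux]
      _ = _ := by group

variable {x : Subgroup.centralizer ({z} : Set G)} {N S : Subgroup ↥(centralizer ({(x : G)} : Set G))}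
  {ρ : ↥(centralizer ({(x : G)} : Set G)) →* XX (pi x)}

/-- `ρ t ≠ 1` -/
theorem rho_t (H : Inp Q z eta pi) (hx : orderOf x = 5) (hfr : fr (pi x) = 1)
    (hR : RS (zD x) (self (x : G)) N (toXX pi x) ρ S) {t : G} (ht : orderOf t = 2) (htz : t ≠ z)
    (htc : t * z = z * t) (htx : t ∈ centralizer ({(x : G)} : Set G)) : ρ ⟨t, htx⟩ ≠ 1 := by
  intro h1
  have h5 : x ^ 5 = 1 := by rw [← hx, pow_orderOf_eq_one]
  obtain ⟨t', ht'⟩ : ∃ t' : Subgroup.centralizer ({z} : Set G), (t' : G) = t :=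
    ⟨⟨t, mem_centralizer_singleton_iff.2 htc⟩, rfl⟩
  subst ht'
  have h2 := rho_eq_one hR (c := t') htx h1
  have h3 : orderOf (pi t') ∣ 2 := by
    apply orderOf_dvd_of_pow_eq_one
    rw [← map_pow]
    have : t' ^ 2 = 1 := by rw [← ht, Subgroup.orderOf_coe, pow_orderOf_eq_one]
    rw [this, map_one]
  have h4 : orderOf (pi t') ∣ 5 := by
    have h6 := orderOf_dvd_of_mem_zpowers h2
    refine h6.trans (orderOf_dvd_of_pow_eq_one ?_)
    rw [← map_pow, h5, map_one]
  have h6 : pi t' = 1 := by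
    rw [← orderOf_eq_one_iff, ← Nat.dvd_one]
    exact (Nat.dvd_gcd h3 h4).trans (by norm_num)
  rcases Cfsg.Agent.PreUniq.MonGen.free_of_fr H.h (by decide : Odd 5) h5 hfr ((H.h.pi_eq_one t').1 h6)
    (mem_centralizer_singleton_iff.1 htx).symm with h7 | h7
  · rw [h7, orderOf_one] at ht
    norm_num at ht
  · exact htz h7

/-- **The elements of order 5.** -/
theorem ns_five [Finite G] (H : Inp Q z eta pi) {r : G} (hr : orderOf r = 5) : NS (MulAut.conj r) := by
  obtain ⟨P, x, a, b, c, u, L⟩ := exists_lifts H.h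
  obtain ⟨f1, f2, f3, ⟨N, ρ, S, hR⟩, hcon⟩ := exists_local H L.ox L.fx
  obtain ⟨t, ht, htz, htc, htx⟩ := exists_t H L.ox L.fx
  have htC : t ∈ centralizer ({(x : G)} : Set G) := mem_centralizer_singleton_iff.2 htx
  have hρt := rho_t H L.ox L.fx hR ht htz htc htC
  obtain ⟨g, hg, hρg⟩ := al_all H L hR hcon hr
  apply ns_conj (k := g)
  have o1 : orderOf (⟨g * r * g⁻¹, hg⟩ : ↥(centralizer ({(x : G)} : Set G))) = 5 := by
    rw [Subgroup.orderOf_mk, ← MulAut.conj_apply, MulEquiv.orderOf_eq, hr]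
  have o2 : orderOf (⟨t, htC⟩ : ↥(centralizer ({(x : G)} : Set G))) = 2 := by
    rw [Subgroup.orderOf_mk, ht]
  have hA : ∀ g y : XX (pi x), orderOf g = 5 → orderOf y = 2 →
      ∃ c : XX (pi x), ¬ Group.IsSolvable ↥(closure ({g, c * y * c⁻¹} : Set (XX (pi x)))) :=
    fun _ _ h1 h2 => JTwo.exists_conj hR.iso h1 h2
  have hsj := hR.surj
  clear hR
  have key := ns_of_rho (ρ := ρ) hsj Nat.prime_five hA (r := ⟨g * r * g⁻¹, hg⟩) (t := ⟨t, htC⟩) o1 o2 hρg hρt
  exact key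

open Cfsg.Agent.MonsterX Cfsg.Agent.MonsterX.Model Cfsg.Agent.MonsterX.MainPack
  Cfsg.Agent.MonsterX.MainSimple Cfsg.Agent.MonsterX.MainBasic
open Cfsg.Agent.MonsterU.Assembly Cfsg.Agent.MonsterP
open Cfsg.Agent.LThreeMB (KChart.chart)

/-- the elements of order 5 of the model -/
theorem ns_model {r : ↥InstData.M.G} (hr : orderOf r = 5) : NS (MulAut.conj r) := by
  have hfin := MFive.Row.finite_model
  exact ns_five ⟨KChart.chart KDone.lft MFive.Row.hc, BpSpor.M5.trNe,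
    CpAutBFive.Closed.coFive H546.MFiveFull.hJ, H546.MFiveFull.hJ, CpAutBFive.Closed.hnEight, BpSpor.M5.hasPair,
    BpSpor.M5.exists_k BpSpor.M5.hA, H546.MFiveFull.card_model, fun r hr => CpAutBFive.EvenRow.cases hr⟩ hr

/-- **The row of the Monster, `p = 5`.** -/
theorem irow_m_five {K : Type*} [Group K] [Finite K] [IsSimpleGroup K] (h : Spor.IsoM K) : IRow 5 K :=
  irow_of_model_m (by norm_num) (by norm_num) (fun _ hr => ns_model hr) h

end Cfsg.Agent.H609.Inv.Five
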